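import Groth.Agent.L17.FM.PCTensor
import Groth.Agent.L29.DCoh.Amplitude
import Groth.Agent.L29.DCoh.EvalMain

/-!
Derived tensor products of pseudo-coherent objects: coherence, bounds, supports.
-/

set_option autoImplicit false
set_option linter.style.haveILetI false
set_option backward.isDefEq.respectTransparency false
set_option backward.isDefEq.respectTransparency.types false

universe u

open CategoryTheory CategoryTheory.Limits MonoidalCategory AlgebraicGeometry

attribute [local instance] HasDerivedCategory.standard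

noncomputable section

namespace Groth.L17.PCTensor

open Groth.L29.DC Groth.L00

variable {X : Scheme.{u}} (F : CochainComplex X.Modules ℤ)

/-- restriction of a complex to a chart -/
abbrev resF {U : Scheme.{u}} (j : U ⟶ X) [IsOpenImmersion j] (K : CochainComplex X.Modules ℤ) :
    DerivedCategory.Q.obj (((Scheme.Modules.restrictFunctor j).mapHomologicalComplex (ComplexShape.up ℤ)).obj K) ≅
      (DCoh.restrictD j).obj (DCoh.toD X K) :=
  ((Scheme.Modules.restrictFunctor j).mapDerivedCategoryFactors.app K).symm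

/-- the data of an affine chart of a derived tensor product -/
theorem exists_chart [DCoh.HasLTensorCx F] (E : DCoh.D X) (x : X) :
    ∃ (R : CommRingCat.{u}) (j : Spec R ⟶ X) (_ : IsOpenImmersion j) (P' F' : CochainComplex (Spec R).Modules ℤ),
      x ∈ j.opensRange ∧ DCoh.IsKFlat P' ∧ Nonempty (DCoh.toD _ P' ≅ (DCoh.restrictD j).obj E) ∧
      Nonempty (DCoh.toD _ F' ≅ (DCoh.restrictD j).obj (DCoh.toD X F)) ∧
      Nonempty (DerivedCategory.Q.obj ((DCoh.tensorCx.obj P').obj F') ≅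
        (DCoh.restrictD j).obj ((DCoh.LTensorCx F).obj E)) := by
  obtain ⟨P, q, hP, -, hq, -⟩ := KFlat.exists_resolution (DerivedCategory.Q.objPreimage E)
  haveI := (DerivedCategory.isIso_Q_map_iff_quasiIso _ q).2 hq
  let eE : DCoh.toD X P ≅ E := asIso (DerivedCategory.Q.map q) ≪≫ DerivedCategory.Q.objObjPreimageIso E
  obtain ⟨eT⟩ := nonempty_LTensorCx_iso F P hP
  obtain ⟨_, ⟨V, hV, rfl⟩, hxV, -⟩ := X.isBasis_affineOpens.exists_subset_of_mem_open
    (Set.mem_univ x) isOpen_univ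
  exact ⟨_, hV.fromSpec, inferInstance, _, _, by rwa [hV.opensRange_fromSpec], isKFlat_restrict hV.fromSpec hP,
    ⟨resF hV.fromSpec P ≪≫ (DCoh.restrictD hV.fromSpec).mapIso eE⟩, ⟨resF hV.fromSpec F⟩,
    ⟨DerivedCategory.Q.mapIso (restrictTensorCxIso hV.fromSpec P F) ≪≫ resF hV.fromSpec _ ≪≫
      (DCoh.restrictD hV.fromSpec).mapIso (eT.symm ≪≫ (DCoh.LTensorCx F).mapIso eE)⟩⟩

theorem isZero_res {U : Scheme.{u}} (j : U ⟶ X) [IsOpenImmersion j] {K : DCoh.D X} {L : DCoh.D U}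
    (e : L ≅ (DCoh.restrictD j).obj K) {i : ℤ} (h : IsZero (DCoh.HD K i)) : IsZero (DCoh.HD L i) :=
  (((Scheme.Modules.restrictFunctor j).map_isZero h).of_iso (HDResIso j K i)).of_iso
    ((DerivedCategory.homologyFunctor _ i).mapIso e)

theorem isZero_stalk_of_res {U : Scheme.{u}} (j : U ⟶ X) [IsOpenImmersion j] {M : X.Modules}
    (h : IsZero ((Scheme.Modules.restrictFunctor j).obj M)) (y : U) : IsZero ((Stk.F X (j y)).obj M) := by
  have hy : y ∉ CohB1.support ((Scheme.Modules.restrictFunctor j).obj M) := fun hy =>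
    (Groth.L21.Mod.mem_support_iff_not_isZero _ y).1 hy ((Groth.L21.Mod.stalkF U y).map_isZero h)
  rw [show CohB1.support ((Scheme.Modules.restrictFunctor j).obj M) = j ⁻¹' CohB1.support M from
    Groth.L21.Mod.support_restrict j M] at hy
  haveI : Subsingleton ((Stk.F X (j y)).obj M) := not_not.1 hy
  exact ModuleCat.isZero_of_subsingleton _

theorem isZero_stalk {U : Scheme.{u}} (j : U ⟶ X) [IsOpenImmersion j] {K : DCoh.D X} {L : DCoh.D U}
    (e : L ≅ (DCoh.restrictD j).obj K) {i : ℤ} (h : IsZero (DCoh.HD L i)) (y : U) :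
    IsZero ((Stk.F X (j y)).obj (DCoh.HD K i)) :=
  isZero_stalk_of_res j
    ((h.of_iso ((DerivedCategory.homologyFunctor _ i).mapIso e).symm).of_iso (HDResIso j K i).symm) y

theorem pc_LTensorCx [DCoh.HasLTensorCx F] (E : DCoh.D X) (hqE : DCoh.IsQCohD E)
    (hqF : DCoh.IsQCohD (DCoh.toD X F)) (hpE : ∀ m : ℤ, DCoh.IsPseudoCoherentD m E)
    (hpF : ∀ m : ℤ, DCoh.IsPseudoCoherentD m (DCoh.toD X F)) (m : ℤ) :
    DCoh.IsPseudoCoherentD m ((DCoh.LTensorCx F).obj E) := by
  refine PCDesc.pc_of_local fun x => ?_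
  obtain ⟨R, j, hj, P', F', hx, hP, ⟨eP⟩, ⟨eF⟩, ⟨e⟩⟩ := exists_chart F E x
  exact exists_opens_of_on (fun {Z} => DCoh.IsPseudoCoherentD m) (fun k _ _ h => PCStalk.pc_res k h)
    (fun e h => isPseudoCoherentD_of_iso e h) j hx (isPseudoCoherentD_of_iso e
      (pc_tensor_affine hP (isQCohD_of_iso eP.symm (isQCohD_restrictD j hqE))
        (isQCohD_of_iso eF.symm (isQCohD_restrictD j hqF))
        (fun n => isPseudoCoherentD_of_iso eP.symm (PCStalk.pc_res j (hpE n)))
        (fun n => isPseudoCoherentD_of_iso eF.symm (PCStalk.pc_res j (hpF n))) m))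

theorem isLE_LTensorCx [DCoh.HasLTensorCx F] (E : DCoh.D X) (hqE : DCoh.IsQCohD E)
    (hqF : DCoh.IsQCohD (DCoh.toD X F)) (hpE : ∀ m : ℤ, DCoh.IsPseudoCoherentD m E)
    (hpF : ∀ m : ℤ, DCoh.IsPseudoCoherentD m (DCoh.toD X F)) (a c : ℤ) [E.IsLE a] [(DCoh.toD X F).IsLE c] :
    ((DCoh.LTensorCx F).obj E).IsLE (a + c) := by
  refine (DerivedCategory.isLE_iff _ _).2 fun i hi => (Stk.isZero_iff _).2 fun x => ?_
  obtain ⟨R, j, hj, P', F', ⟨y, hy⟩, hP, ⟨eP⟩, ⟨eF⟩, ⟨e⟩⟩ := exists_chart F E x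
  have hy' : j y = x := hy
  rw [← hy']
  exact isZero_stalk j e (isZero_above_affine hP (isQCohD_of_iso eP.symm (isQCohD_restrictD j hqE))
    (isQCohD_of_iso eF.symm (isQCohD_restrictD j hqF))
    (fun n => isPseudoCoherentD_of_iso eP.symm (PCStalk.pc_res j (hpE n)))
    (fun n => isPseudoCoherentD_of_iso eF.symm (PCStalk.pc_res j (hpF n))) a c
    (fun q hq => isZero_res j eP (DerivedCategory.isZero_of_isLE E a q hq))
    (fun q hq => isZero_res j eF (DerivedCategory.isZero_of_isLE _ c q hq)) i hi) y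

theorem exists_isGE_LTensorCx [CompactSpace X] [DCoh.HasLTensorCx F] (E : DCoh.D X) (hE : DCoh.IsPerfect E)
    (hqF : DCoh.IsQCohD (DCoh.toD X F))
    (hpF : ∀ m : ℤ, DCoh.IsPseudoCoherentD m (DCoh.toD X F)) (c : ℤ) [(DCoh.toD X F).IsGE c] :
    ∃ A : ℤ, ((DCoh.LTensorCx F).obj E).IsGE A := by
  choose R j hj P' F' hx hP eP eF e using exists_chart F E
  have h := fun x => haveI := hj x; exists_isZero_below_affine (hP x)
    (isQCohD_of_iso (eF x).some.symm (isQCohD_restrictD (j x) hqF))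
    (isPerfect_of_iso (eP x).some.symm (EvalMain.isPerfect_restrictD (j x) hE))
    (fun n => isPseudoCoherentD_of_iso (eF x).some.symm (PCStalk.pc_res (j x) (hpF n))) c
    (fun q hq => isZero_res (j x) (eF x).some (DerivedCategory.isZero_of_isGE _ c q hq))
  choose A hA using h
  obtain ⟨t, ht⟩ := (isCompact_univ (X := X)).elim_finite_subcover
    (fun x => haveI := hj x; ((j x).opensRange : Set X)) (fun x => haveI := hj x; (j x).opensRange.isOpen)
    (fun x _ => Set.mem_iUnion.2 ⟨x, hx x⟩)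
  obtain ⟨B, hB⟩ := (t.image A).finite_toSet.bddBelow
  refine ⟨B, (DerivedCategory.isGE_iff _ _).2 fun i hi => (Stk.isZero_iff _).2 fun x => ?_⟩
  obtain ⟨x₀, hx₀, hxx₀⟩ := Set.mem_iUnion₂.1 (ht (Set.mem_univ x))
  haveI := hj x₀
  obtain ⟨y, rfl⟩ := hxx₀
  exact isZero_stalk (j x₀) (e x₀).some (hA x₀ i (hi.trans_le (hB (Finset.mem_coe.2 (Finset.mem_image_of_mem A hx₀))))) y

theorem support_LTensorCx [DCoh.HasLTensorCx F] (E : DCoh.D X) {Z : Set X}
    (hZ : ∀ q, CohB1.support (DCoh.HD (DCoh.toD X F) q) ⊆ Z) (i : ℤ) :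
    CohB1.support (DCoh.HD ((DCoh.LTensorCx F).obj E) i) ⊆ Z := by
  intro x hx
  by_contra hxZ
  obtain ⟨P, q, hP, -, hq, -⟩ := KFlat.exists_resolution (DerivedCategory.Q.objPreimage E)
  haveI := (DerivedCategory.isIso_Q_map_iff_quasiIso _ q).2 hq
  let eE : DCoh.toD X P ≅ E := asIso (DerivedCategory.Q.map q) ≪≫ DerivedCategory.Q.objObjPreimageIso E
  obtain ⟨eT⟩ := nonempty_LTensorCx_iso F P hP
  let e : DCoh.HD ((DCoh.LTensorCx F).obj E) i ≅ ((DCoh.tensorCx.obj P).obj F).homology i :=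
    (DerivedCategory.homologyFunctor _ i).mapIso ((DCoh.LTensorCx F).mapIso eE.symm ≪≫ eT) ≪≫
      (DerivedCategory.homologyFunctorFactors _ i).app _
  have hF : ∀ n, IsZero (((Stk.S X x).obj F).homology n) := fun n => by
    refine IsZero.of_iso ?_ ((F.sc n).mapHomologyIso (Stk.F X x))
    haveI : Subsingleton ((Stk.F X x).obj (DCoh.HD (DCoh.toD X F) n)) :=
      not_not.1 fun h => hxZ (hZ n h)
    exact (ModuleCat.isZero_of_subsingleton ((Stk.F X x).obj (DCoh.HD (DCoh.toD X F) n))).of_iso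
      ((Stk.F X x).mapIso ((DerivedCategory.homologyFunctorFactors X.Modules n).app F)).symm
  refine hx (ModuleCat.subsingleton_of_isZero (IsZero.of_iso ?_ ((Stk.F X x).mapIso e)))
  refine IsZero.of_iso ?_ ((((DCoh.tensorCx.obj P).obj F).sc i).mapHomologyIso (Stk.F X x)).symm
  exact (KFlat.stalk_KF P hP x _ hF i).of_iso ((HomologicalComplex.homologyFunctor _ _ i).mapIso
    ((Stk.tensorCxIso x P F).symm ≪≫ KFlatAlg.commIso ((Stk.S X x).obj P) ((Stk.S X x).obj F)))

end Groth.L17.PCTensor
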