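import Groth.Agent.L17.FM.PCTensorGlobal
import Groth.Agent.L29.DCoh.Restrict
import Groth.Agent.L29.DCoh.QCohLocal
import Groth.Agent.L29.RelPC.FlatPull
import Groth.Agent.L16.AffineBC.Pullback
import Groth.Prelude.Def_HTor

/-!
Coherence of derived tensor products on locally Noetherian schemes.
-/

set_option autoImplicit false
set_option linter.style.haveILetI false
set_option backward.isDefEq.respectTransparency false
set_option backward.isDefEq.respectTransparency.types false

universe u

open CategoryTheory CategoryTheory.Limits AlgebraicGeometry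

attribute [local instance] HasDerivedCategory.standard

noncomputable section

namespace Groth.L17.PCTensor

open Groth.L29.DC

variable {X Y : Scheme.{u}}

theorem isLE_toD (K : CochainComplex X.Modules ℤ) (b : ℤ) (h : ∀ i, b < i → IsZero (K.X i)) :
    (DCoh.toD X K).IsLE b :=
  (DerivedCategory.isLE_iff _ b).2 fun i hi =>
    (ShortComplex.isZero_homology_of_isZero_X₂ (K.sc i) (h i hi)).of_iso
      ((DerivedCategory.homologyFunctorFactors _ i).app K)

/-- derived tensor products of pseudo-coherent coherent objects are coherent -/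
theorem isCohD_LTensorCx [IsLocallyNoetherian X] (F : CochainComplex X.Modules ℤ) [DCoh.HasLTensorCx F]
    (E : DCoh.D X) (hqE : DCoh.IsQCohD E) (hqF : DCoh.IsQCohD (DCoh.toD X F))
    (hpE : ∀ m : ℤ, DCoh.IsPseudoCoherentD m E)
    (hpF : ∀ m : ℤ, DCoh.IsPseudoCoherentD m (DCoh.toD X F)) :
    DCoh.IsCohD ((DCoh.LTensorCx F).obj E) := fun i =>
  PCNoeth.coh_of_pc (isQCohD_LTensorCx F hqF hqE) (pc_LTensorCx F E hqE hqF hpE hpF i) i le_rfl

/-- flat pullback of a bounded above complex with coherent cohomology -/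
theorem isCohD_pullCx [IsLocallyNoetherian X] (f : X ⟶ Y) [Flat f] (Q : CochainComplex Y.Modules ℤ)
    (hQ : ∀ i, Coh.IsCoh ((Scheme.Modules.pullback f).obj (Q.homology i))) : DCoh.IsCohD (DCoh.toD X ((HTor.pullCx f).obj Q)) := fun i => by
  haveI := Groth.L29.RelPC.preservesFiniteLimits_pullback f
  haveI : PreservesColimitsOfSize.{u, u} (Scheme.Modules.pullback f) :=
    (Scheme.Modules.pullbackPushforwardAdjunction f).leftAdjoint_preservesColimits
  haveI : PreservesFiniteColimits (Scheme.Modules.pullback f) :=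
    PreservesColimitsOfSize.preservesFiniteColimits _
  exact Groth.L16.CohSupport.isCoh_of_iso
    (((Q.sc i).mapHomologyIso (Scheme.Modules.pullback f)).symm ≪≫
      ((DerivedCategory.homologyFunctorFactors _ i).app ((HTor.pullCx f).obj Q)).symm)
    (hQ i)

/-- the external local Tor -/
theorem isCohD_ext {Z : Scheme.{u}} [IsLocallyNoetherian X] [IsLocallyNoetherian Z] (p : Z ⟶ X) (q : Z ⟶ Y)
    [Flat q] (E : DCoh.D X) (hE : DCoh.IsCohD E) (a : ℤ) [E.IsLE a] (Q : CochainComplex Y.Modules ℤ) (c : ℤ)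
    (hc : ∀ i, c < i → IsZero (Q.X i))
    (hQ : ∀ i, Coh.IsCoh ((Scheme.Modules.pullback q).obj (Q.homology i))) [DCoh.HasLpull p]
    [DCoh.HasLTensorCx ((HTor.pullCx q).obj Q)] :
    DCoh.IsCohD ((DCoh.LTensorCx ((HTor.pullCx q).obj Q)).obj ((DCoh.Lpull p).obj E)) := by
  have hF := isCohD_pullCx q Q hQ
  haveI : (DCoh.toD Z ((HTor.pullCx q).obj Q)).IsLE c :=
    isLE_toD _ c fun i hi => (Scheme.Modules.pullback q).map_isZero (hc i hi)
  have hqE : DCoh.IsQCohD E := fun i => (hE i).1
  have hqF : DCoh.IsQCohD (DCoh.toD Z ((HTor.pullCx q).obj Q)) := fun i => (hF i).1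
  exact isCohD_LTensorCx _ _ (isQCohD_Lpull p hqE) hqF
    (fun m => isPseudoCoherentD_Lpull p (PCNoeth.pc_of_coh hqE m a fun i _ => hE i))
    (fun m => PCNoeth.pc_of_coh hqF m c fun i _ => hF i)

/-- pullback of coherent cohomology -/
theorem isCoh_pullback_homology [IsLocallyNoetherian X] (f : X ⟶ Y) (Q : CochainComplex Y.Modules ℤ)
    (hQ : DCoh.IsCohD (DCoh.toD Y Q)) (i : ℤ) : Coh.IsCoh ((Scheme.Modules.pullback f).obj (Q.homology i)) :=
  Groth.L16.CohSupport.isCoh_of_iso
    ((Scheme.Modules.pullback f).mapIso ((DerivedCategory.homologyFunctorFactors _ i).app Q))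
    (Groth.L16.AffineBC.isCoh_pullback f (hQ i))

end Groth.L17.PCTensor
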