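import Groth.Agent.L00.KFlatPull
import Groth.Agent.L00.TensorColim
import Groth.Agent.L00.DerivedApi
import Groth.Prelude.Def_FlatMod2
import Mathlib.Algebra.Homology.ShortComplex.ExactFunctor

/-!
For a module `K` on `X` flat over `Y`, the functor `M ↦ K ⊗ f^* M` is exact.
-/

set_option autoImplicit false
set_option linter.style.haveILetI false
set_option backward.defeqAttrib.useBackward true
set_option backward.isDefEq.respectTransparency false
set_option backward.isDefEq.respectTransparency.types false

universe u

open CategoryTheory CategoryTheory.Limits MonoidalCategory AlgebraicGeometry TensorProduct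

noncomputable section

namespace Groth.L17.FlatTensor

open Groth.L00

section Algebra

variable {A B : Type u} [CommRing A] [CommRing B] [Algebra A B] {M N K : Type u} [AddCommGroup M] [Module A M]
  [AddCommGroup N] [Module A N] [AddCommGroup K] [Module B K] [Module A K] [IsScalarTower A B K]

theorem injective_rTensor_baseChange [Module.Flat A K] (φ : M →ₗ[A] N) (hφ : Function.Injective φ) :
    Function.Injective ((φ.baseChange B).rTensor K) := by
  let e : (B ⊗[A] M) ⊗[B] K ≃ₗ[B] K ⊗[A] M :=
    TensorProduct.comm B (B ⊗[A] M) K ≪≫ₗ TensorProduct.AlgebraTensorModule.cancelBaseChange A B B K M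
  let e' : (B ⊗[A] N) ⊗[B] K ≃ₗ[B] K ⊗[A] N :=
    TensorProduct.comm B (B ⊗[A] N) K ≪≫ₗ TensorProduct.AlgebraTensorModule.cancelBaseChange A B B K N
  have hsq : ∀ t, e' ((φ.baseChange B).rTensor K t) = φ.lTensor K (e t) := fun t => by
    induction t using TensorProduct.induction_on with
    | zero => simp
    | tmul p k =>
      induction p using TensorProduct.induction_on with
      | zero => simp
      | tmul b m => simp [e, e']
      | add a b ha hb => simp only [TensorProduct.add_tmul, map_add, ha, hb]
    | add a b ha hb => simp only [map_add, ha, hb]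
  intro s t h
  refine e.injective (Module.Flat.lTensor_preserves_injective_linearMap φ hφ ?_)
  rw [← hsq, ← hsq, h]

end Algebra

theorem mono_extend_tensor {A B : Type u} [CommRing A] [CommRing B] (g : A →+* B) (K : ModuleCat.{u} B)
    (hK : letI := Module.compHom K g; Module.Flat A K) {M N : ModuleCat.{u} A} (φ : M ⟶ N) [Mono φ] :
    Mono (((curriedTensor (ModuleCat.{u} B)).map ((ModuleCat.extendScalars g).map φ)).app K) := by
  letI := g.toAlgebra
  letI := Module.compHom K g
  haveI : IsScalarTower A B K := ⟨fun a b k => by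
    show (g a * b) • k = g a • (b • k)
    rw [mul_smul]⟩
  haveI : Module.Flat A K := hK
  rw [ModuleCat.mono_iff_injective]
  exact injective_rTensor_baseChange (B := B) φ.hom ((ModuleCat.mono_iff_injective φ).1 inferInstance)

variable {X Y : Scheme.{u}} (f : X ⟶ Y) (K : X.Modules)

/-- `M ↦ K ⊗ f^* M` -/
abbrev G : Y.Modules ⥤ X.Modules :=
  Scheme.Modules.pullback f ⋙ (DCoh.tensorBi (X := X)).obj K

theorem mono_stalk (hK : FlatMod.IsFlatOver f K) {M N : Y.Modules} (φ : M ⟶ N) [Mono φ] (x : X) :
    Mono ((Stk.F X x).map ((G f K).map φ)) := by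
  haveI : PreservesFiniteLimits (Stk.F Y (f x)) := Stk.preservesFiniteLimits _
  haveI : Mono ((Stk.F Y (f x)).map φ) := inferInstance
  haveI : Mono (((curriedTensor (ModuleCat.{u} (X.presheaf.stalk x))).map
      ((ModuleCat.extendScalars (PullStalk.φ f x)).map ((Stk.F Y (f x)).map φ))).app ((Stk.F X x).obj K)) :=
    mono_extend_tensor (PullStalk.φ f x) ((Stk.F X x).obj K) (hK x) ((Stk.F Y (f x)).map φ)
  let C : ModuleCat.{u} (X.presheaf.stalk x) ⥤ ModuleCat.{u} (X.presheaf.stalk x) :=
    (curriedTensor (ModuleCat.{u} (X.presheaf.stalk x))).flip.obj ((Stk.F X x).obj K)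
  have h1 : (PullStalk.stalkIso f x).hom.app M ≫ (ModuleCat.extendScalars (PullStalk.φ f x)).map ((Stk.F Y (f x)).map φ) =
      (Stk.F X x).map ((Scheme.Modules.pullback f).map φ) ≫ (PullStalk.stalkIso f x).hom.app N :=
    ((PullStalk.stalkIso f x).hom.naturality φ).symm
  have h2 := Stk.β_natural₁ x ((Scheme.Modules.pullback f).map φ) K
  haveI : Mono (C.map ((Stk.F X x).map ((Scheme.Modules.pullback f).map φ))) := by
    haveI : Mono (C.map ((PullStalk.stalkIso f x).hom.app M ≫
        (ModuleCat.extendScalars (PullStalk.φ f x)).map ((Stk.F Y (f x)).map φ))) := by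
      rw [Functor.map_comp]
      haveI : Mono (C.map ((ModuleCat.extendScalars (PullStalk.φ f x)).map ((Stk.F Y (f x)).map φ))) := ‹_›
      infer_instance
    rw [h1, Functor.map_comp] at this
    exact mono_of_mono _ (C.map ((PullStalk.stalkIso f x).hom.app N))
  haveI : Mono (((curriedTensor (ModuleCat.{u} (X.presheaf.stalk x))).map
      ((Stk.F X x).map ((Scheme.Modules.pullback f).map φ))).app ((Stk.F X x).obj K) ≫
        (Stk.β x ((Scheme.Modules.pullback f).obj N) K).hom) := by
    haveI : Mono (((curriedTensor (ModuleCat.{u} (X.presheaf.stalk x))).map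
      ((Stk.F X x).map ((Scheme.Modules.pullback f).map φ))).app ((Stk.F X x).obj K)) := ‹_›
    infer_instance
  rw [h2] at this
  haveI : Mono (inv (Stk.β x ((Scheme.Modules.pullback f).obj M) K).hom ≫
    ((Stk.β x ((Scheme.Modules.pullback f).obj M) K).hom ≫ (Stk.F X x).map ((G f K).map φ))) :=
    @mono_comp _ _ _ _ _ _ inferInstance _ this
  rwa [IsIso.inv_hom_id_assoc] at this

theorem mono_map (hK : FlatMod.IsFlatOver f K) {M N : Y.Modules} (φ : M ⟶ N) [Mono φ] : Mono ((G f K).map φ) :=
  Preadditive.mono_of_isZero_kernel _ ((Stk.isZero_iff _).2 fun x => by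
    haveI := mono_stalk f K hK φ x
    exact (isZero_kernel_of_mono ((Stk.F X x).map ((G f K).map φ))).of_iso
      (PreservesKernel.iso (Stk.F X x) ((G f K).map φ)))

instance preservesFiniteColimits : PreservesFiniteColimits (G f K) := by
  haveI : PreservesColimitsOfSize.{u, u} (Scheme.Modules.pullback f) :=
    (Scheme.Modules.pullbackPushforwardAdjunction f).leftAdjoint_preservesColimits
  haveI : PreservesColimitsOfSize.{u, u} ((DCoh.tensorBi (X := X)).obj K) :=
    Groth.L00.Tensor.preservesColimits_tensorLeftF K
  exact PreservesColimitsOfSize.preservesFiniteColimits _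

instance additive : (G f K).Additive := by
  haveI : PreservesBinaryBiproducts (G f K) :=
    preservesBinaryBiproducts_of_preservesBinaryCoproducts (G f K)
  exact Functor.additive_of_preservesBinaryBiproducts _

theorem preservesFiniteLimits (hK : FlatMod.IsFlatOver f K) : PreservesFiniteLimits (G f K) :=
  (G f K).preservesFiniteLimits_iff_forall_exact_map_and_mono.2 fun S hS =>
    haveI := hS.mono_f
    ⟨((G f K).preservesFiniteColimits_iff_forall_exact_map_and_epi.1 inferInstance S hS).1,
      mono_map f K hK S.f⟩

end Groth.L17.FlatTensor
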