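import Groth.Agent.L29.DCoh.PCNoeth
import Groth.Agent.L29.DCoh.QCohTensor
import Groth.Agent.L29.DCoh.TorPerfect
import Groth.Agent.L29.DCoh.GapTensor
import Groth.Agent.L10.DRing.TensorFinite

/-!
Derived tensor products of pseudo-coherent objects with quasi-coherent cohomology.
-/

set_option autoImplicit false
set_option linter.style.haveILetI false
set_option backward.isDefEq.respectTransparency false
set_option backward.isDefEq.respectTransparency.types false

universe u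

open CategoryTheory CategoryTheory.Limits MonoidalCategory AlgebraicGeometry

attribute [local instance] HasDerivedCategory.standard

noncomputable section

namespace Groth.L17.PCTensor

open Groth.L29.DC Groth.L00

variable {R : CommRingCat.{u}}

theorem isFlat_tilde (N : ModuleCat.{u} R) (h : Module.Finite R N ∧ Module.Projective R N) :
    FlatMod.IsFlat ((tilde.functor R).obj N) := by
  haveI := h.1
  haveI := h.2
  exact isFlat_of_isFinLocFree (Groth.L18.LFP.isFinLocFree_tilde N)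

/-- a finite free model of a pseudo-coherent object on an affine scheme -/
theorem exists_model {F : CochainComplex (Spec R).Modules ℤ} (hq : DCoh.IsQCohD (DCoh.toD _ F))
    (hpc : ∀ m : ℤ, DCoh.IsPseudoCoherentD m (DCoh.toD _ F)) :
    ∃ (E : DRing.Cx R) (b : ℤ), DRing.VanishesAbove E b ∧ DRing.TermwiseFiniteProjective E ∧
      DCoh.IsKFlat ((TildeAlg.tC (R := R)).obj E) ∧
      Nonempty (DerivedCategory.Q.obj ((TildeAlg.tC (R := R)).obj E) ≅ DCoh.toD _ F) := by
  obtain ⟨M, ⟨e⟩⟩ := (TildeD.isQCohD_iff _).1 hq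
  obtain ⟨E, b, hb, hE, ⟨eE⟩⟩ := Groth.L02.PC.pc'_of_forall fun m =>
    TildeAlg.pc_of_tilde (isPseudoCoherentD_of_iso e.symm (hpc m))
  have hp := Groth.L10.TensorFinite.finProj_of_finFree hE
  exact ⟨E, b, hb, hp, TildeAlg.isKFlat_of_bdd _ (fun i => isFlat_tilde _ (hp i)) b
    (fun i hi => (tilde.functor R).map_isZero (hb i hi)),
    ⟨(TildeAlg.qIso E).symm ≪≫ (DCoh.tildeD R).mapIso eE ≪≫ e⟩⟩

/-- the tensor product in terms of models -/
theorem nonempty_tensor_model {P F : CochainComplex (Spec R).Modules ℤ} (hP : DCoh.IsKFlat P)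
    {EP EF : DRing.Cx R} (hEP : DCoh.IsKFlat ((TildeAlg.tC (R := R)).obj EP))
    (hEF : DCoh.IsKFlat ((TildeAlg.tC (R := R)).obj EF))
    (eP : DerivedCategory.Q.obj ((TildeAlg.tC (R := R)).obj EP) ≅ DCoh.toD _ P)
    (eF : DerivedCategory.Q.obj ((TildeAlg.tC (R := R)).obj EF) ≅ DCoh.toD _ F) :
    Nonempty ((DCoh.tildeD R).obj (DRing.toD (EP ⊗ EF)) ≅
      DerivedCategory.Q.obj ((DCoh.tensorCx.obj P).obj F)) := by
  obtain ⟨F', r, hF', -, hr, -⟩ := KFlat.exists_resolution F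
  haveI := hr
  haveI := KFlat.quasiIso_tensor_of_kflat P hP r
  let e₀ : DerivedCategory.Q.obj ((DCoh.tensorCx.obj P).obj F') ≅
      DerivedCategory.Q.obj ((DCoh.tensorCx.obj P).obj F) :=
    DerivedCategory.Q.mapIso (KFlat.commIso F' P) ≪≫
      @asIso _ _ _ _ (DerivedCategory.Q.map (((DCoh.tensorCx (X := Spec R)).map r).app P))
        ((DerivedCategory.isIso_Q_map_iff_quasiIso _ _).2 inferInstance) ≪≫
      (DerivedCategory.Q.mapIso (KFlat.commIso F P)).symm
  haveI : IsIso (DerivedCategory.Q.map r) := (DerivedCategory.isIso_Q_map_iff_quasiIso _ r).2 hr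
  obtain ⟨t⟩ := nonempty_tensor_iso hEP hP hEF hF' eP (eF ≪≫ (asIso (DerivedCategory.Q.map r)).symm)
  exact ⟨TildeAlg.qIso _ ≪≫ DerivedCategory.Q.mapIso (tildeTensorCxIso EP EF).symm ≪≫ t ≪≫ e₀⟩

theorem homology_zero_of_model {F : CochainComplex (Spec R).Modules ℤ} {E : DRing.Cx R}
    (e : DerivedCategory.Q.obj ((TildeAlg.tC (R := R)).obj E) ≅ DCoh.toD _ F) (i : ℤ)
    (h : IsZero (DCoh.HD (DCoh.toD _ F) i)) : IsZero (E.homology i) := by
  rw [← Groth.L02.PC.isZero_HH_Q_iff E i]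
  exact (TildeAlg.isZero_hd_iff (DRing.toD E) i).1
    (h.of_iso ((DerivedCategory.homologyFunctor _ i).mapIso (TildeAlg.qIso E ≪≫ e)))

theorem pc_tensor_affine {P F : CochainComplex (Spec R).Modules ℤ} (hP : DCoh.IsKFlat P)
    (hqP : DCoh.IsQCohD (DCoh.toD _ P)) (hqF : DCoh.IsQCohD (DCoh.toD _ F))
    (hpP : ∀ m : ℤ, DCoh.IsPseudoCoherentD m (DCoh.toD _ P))
    (hpF : ∀ m : ℤ, DCoh.IsPseudoCoherentD m (DCoh.toD _ F)) (m : ℤ) :
    DCoh.IsPseudoCoherentD m (DerivedCategory.Q.obj ((DCoh.tensorCx.obj P).obj F)) := by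
  obtain ⟨EP, b, hb, hp, hkP, ⟨eP⟩⟩ := exists_model hqP hpP
  obtain ⟨EF, d, hd, hpf, hkF, ⟨eF⟩⟩ := exists_model hqF hpF
  obtain ⟨e⟩ := nonempty_tensor_model hP hkP hkF eP eF
  exact isPseudoCoherentD_of_iso e (TildeAlg.pc_tilde
    (Groth.L02.PC.pc_of_pc' (Groth.L10.TensorFinite.isPseudoCoherent'_tensor hb hd hp hpf) m))

theorem isZero_above_affine {P F : CochainComplex (Spec R).Modules ℤ} (hP : DCoh.IsKFlat P)
    (hqP : DCoh.IsQCohD (DCoh.toD _ P)) (hqF : DCoh.IsQCohD (DCoh.toD _ F))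
    (hpP : ∀ m : ℤ, DCoh.IsPseudoCoherentD m (DCoh.toD _ P))
    (hpF : ∀ m : ℤ, DCoh.IsPseudoCoherentD m (DCoh.toD _ F)) (a c : ℤ)
    (ha : ∀ i, a < i → IsZero (DCoh.HD (DCoh.toD _ P) i))
    (hc : ∀ i, c < i → IsZero (DCoh.HD (DCoh.toD _ F) i)) (i : ℤ) (hi : a + c < i) :
    IsZero (DCoh.HD (DerivedCategory.Q.obj ((DCoh.tensorCx.obj P).obj F)) i) := by
  obtain ⟨EP, b, hb, hp, hkP, ⟨eP⟩⟩ := exists_model hqP hpP
  obtain ⟨EF, d, hd, hpf, hkF, ⟨eF⟩⟩ := exists_model hqF hpF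
  obtain ⟨e⟩ := nonempty_tensor_model hP hkP hkF eP eF
  refine IsZero.of_iso ?_ ((DerivedCategory.homologyFunctor _ i).mapIso e.symm)
  refine (TildeAlg.isZero_hd_iff _ i).2 ((Groth.L02.PC.isZero_HH_Q_iff _ i).2 ?_)
  have hfP := Groth.L10.TensorFinite.flat_of_finProj hp
  have hfF := Groth.L10.TensorFinite.flat_of_finProj hpf
  haveI : EP.IsLE a := (CochainComplex.isLE_iff EP a).2 fun q hq =>
    (HomologicalComplex.exactAt_iff_isZero_homology _ _).2 (homology_zero_of_model eP q (ha q hq))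
  let E := EP.truncLE a
  have hE : ∀ q, a < q → IsZero (E.X q) := fun q hq => CochainComplex.isZero_of_isStrictlyLE _ a q hq
  have hEf : ∀ q, Module.Flat R (E.X q) := fun q => by
    rcases lt_trichotomy q a with hq | hq | hq
    · haveI := hfP q
      exact Module.Flat.of_linearEquiv (EP.truncLEXIso a q (by omega)).toLinearEquiv
    · subst hq
      haveI := flat_ker_of_exact EP (q + 1) b hfP hb (fun n hn =>
        (CochainComplex.isLE_iff EP q).1 inferInstance n (by omega))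
      haveI hflat1 : Module.Flat R (LinearMap.ker (EP.d (q + 1) (q + 1 + 1)).hom) := this (q + 1) (by omega)
      haveI := hfP q
      have he : LinearMap.range (EP.d q (q + 1)).hom = LinearMap.ker (EP.d (q + 1) (q + 1 + 1)).hom :=
        (ShortComplex.moduleCat_exact_iff_range_eq_ker _).1
          ((EP.exactAt_iff' q (q + 1) (q + 1 + 1) (CochainComplex.prev ℤ _ ▸ by simp) (CochainComplex.next ℤ _)).1
            ((CochainComplex.isLE_iff EP q).1 inferInstance (q + 1) (by omega)))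
      haveI : Module.Flat R (LinearMap.range (EP.d q (q + 1)).hom) := he ▸ hflat1
      haveI hk := Groth.L07.FlatDescent.flat_ker (EP.d q (q + 1)).hom.rangeRestrict (LinearMap.surjective_rangeRestrict _)
      rw [LinearMap.ker_rangeRestrict] at hk
      let eK : EP.cycles q ≅ ModuleCat.of R (LinearMap.ker (EP.d q (q + 1)).hom) :=
        ((EP.cyclesIsKernel q (q + 1) (by simp)).conePointUniqueUpToIso (ModuleCat.kernelIsLimit (EP.d q (q + 1))))
      exact Module.Flat.of_linearEquiv (EP.truncLEXIsoCycles q ≪≫ eK).toLinearEquiv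
    · haveI := ModuleCat.subsingleton_of_isZero (hE q hq)
      infer_instance
  haveI := GapTensor.quasiIso_map hfF hd (EP.ιTruncLE a)
  haveI : QuasiIso ((KFlatAlg.commIso EP EF).hom) := inferInstance
  refine IsZero.of_iso (GapTensor.isZero_above hEf hE (fun q hq => homology_zero_of_model eF q (hc q hq)) i hi) ?_
  exact (HomologicalComplex.homologyFunctor _ _ i).mapIso (KFlatAlg.commIso EF EP) ≪≫
    (asIso (HomologicalComplex.homologyMap ((GapTensor.Φ EF).map (EP.ιTruncLE a)) i)).symm ≪≫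
    (HomologicalComplex.homologyFunctor _ _ i).mapIso (KFlatAlg.commIso E EF)

theorem exists_perfect_model {P : CochainComplex (Spec R).Modules ℤ} (hpP : DCoh.IsPerfect (DCoh.toD _ P)) :
    ∃ (E : DRing.Cx R) (a b : ℤ), DRing.VanishesOutside E a b ∧ DRing.TermwiseFiniteProjective E ∧
      DCoh.IsKFlat ((TildeAlg.tC (R := R)).obj E) ∧
      Nonempty (DerivedCategory.Q.obj ((TildeAlg.tC (R := R)).obj E) ≅ DCoh.toD _ P) := by
  obtain ⟨M, ⟨e⟩⟩ := (TildeD.isQCohD_iff (DCoh.toD (Spec R) P)).1 (PCQCoh.isQCohD_of_perfect hpP)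
  obtain ⟨E, a, b, hv, hp, ⟨eE⟩⟩ := TildeAlg.perfect_of_tilde (K := M) (isPerfect_of_iso e.symm hpP)
  exact ⟨E, a, b, hv, hp, TildeAlg.isKFlat_of_bdd ((TildeAlg.tC (R := R)).obj E)
    (fun i => isFlat_tilde (E.X i) (hp i)) b (fun i hi => (tilde.functor R).map_isZero (hv i (Or.inr hi))),
    ⟨(TildeAlg.qIso E).symm ≪≫ (DCoh.tildeD R).mapIso eE ≪≫ e⟩⟩

theorem exists_isZero_below_affine {P F : CochainComplex (Spec R).Modules ℤ} (hP : DCoh.IsKFlat P)
    (hqF : DCoh.IsQCohD (DCoh.toD _ F))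
    (hpP : DCoh.IsPerfect (DCoh.toD _ P)) (hpF : ∀ m : ℤ, DCoh.IsPseudoCoherentD m (DCoh.toD _ F)) (c : ℤ)
    (hc : ∀ i, i < c → IsZero (DCoh.HD (DCoh.toD _ F) i)) :
    ∃ A : ℤ, ∀ i, i < A → IsZero (DCoh.HD (DerivedCategory.Q.obj ((DCoh.tensorCx.obj P).obj F)) i) := by
  obtain ⟨EP, a, b, hv, hp, hkP, ⟨eP⟩⟩ := exists_perfect_model hpP
  obtain ⟨EF, d, hd, hpf, hkF, ⟨eF⟩⟩ := exists_model hqF hpF
  obtain ⟨e'⟩ := nonempty_tensor_model hP hkP hkF eP eF
  refine ⟨a + c, fun i hi => IsZero.of_iso ?_ ((DerivedCategory.homologyFunctor _ i).mapIso e'.symm)⟩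
  refine (TildeAlg.isZero_hd_iff (DRing.toD (EP ⊗ EF)) i).2 ((Groth.L02.PC.isZero_HH_Q_iff (EP ⊗ EF) i).2 ?_)
  exact GapTensor.isZero_below (E := EP) (b := b) (a := a) (c := c) (C := EF) (Groth.L10.TensorFinite.flat_of_finProj hp) (fun q hq => hv q (Or.inr hq))
    (fun q hq => hv q (Or.inl hq)) (fun q hq => homology_zero_of_model eF q (hc q hq)) i hi

end Groth.L17.PCTensor
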